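import Groth.Agent.Lib.ColimCoh.Site
import Groth.Prelude.Def_CohTop
import Mathlib.Topology.Spectral.Prespectral
import Mathlib.Topology.QuasiSeparated
import Mathlib.CategoryTheory.Filtered.Basic

/-!
# Finite covers by compact opens
-/

universe u

open CategoryTheory Limits Opposite TopologicalSpace

namespace GrothLib.ColimCoh

variable {X : TopCat.{u}}

/-- Finite covers of compact opens by compact opens. -/
def CompactCov (U : Opens X) (ι : Type u) (Y : ι → Over U) : Prop :=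
  Finite ι ∧ IsCompact (U : Set X) ∧ (∀ i, IsCompact ((Y i).left : Set X)) ∧
    Sieve.ofArrows (fun i => (Y i).left) (fun i => (Y i).hom) ∈ Opens.grothendieckTopology X U

/-- The class of compact opens. -/
def compactOpens (X : TopCat.{u}) : Set (Opens X) := {U | IsCompact (U : Set X)}

lemma over_prod_left (U : Opens X) {n : ℕ} (Y : Fin (n + 1) → Over U) :
    (∏ᶜ Y).left = ⨅ k, (Y k).left := by
  refine le_antisymm (le_iInf fun k => leOfHom (Pi.π Y k).left) ?_
  let h0 : (⨅ k, (Y k).left) ⟶ U := homOfLE ((iInf_le _ 0).trans (leOfHom (Y 0).hom))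
  exact leOfHom (Pi.lift (f := Y) fun k => (Over.homMk (homOfLE (iInf_le _ k)) :
    Over.mk h0 ⟶ Y k)).left

lemma isCompact_iInf_of_isQuasiSeparated {W : Opens X} (hW : IsQuasiSeparated (W : Set X)) :
    ∀ {n : ℕ} (V : Fin (n + 1) → Opens X), (∀ k, IsCompact (V k : Set X)) → (∀ k, V k ≤ W) →
      IsCompact ((⨅ k, V k : Opens X) : Set X)
  | 0, V, h, _ => by
    rw [show (⨅ k, V k) = V 0 from le_antisymm (iInf_le _ 0)
      (le_iInf fun k => by rw [Subsingleton.elim (α := Fin 1) k 0])]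
    exact h 0
  | n + 1, V, h, hle => by
    rw [show (⨅ k, V k) = V 0 ⊓ ⨅ k : Fin (n + 1), V k.succ from le_antisymm
      (le_inf (iInf_le _ 0) (le_iInf fun k => iInf_le _ k.succ))
      (le_iInf fun k => Fin.cases inf_le_left (fun k => inf_le_right.trans (iInf_le _ k)) k)]
    rw [Opens.coe_inf]
    exact hW _ _ (hle 0) (V 0).isOpen (h 0)
      ((iInf_le (fun k : Fin (n + 1) => V k.succ) 0).trans (hle _)) (Opens.isOpen _)
      (isCompact_iInf_of_isQuasiSeparated hW (fun k => V k.succ) (fun k => h k.succ) fun k => hle k.succ)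

lemma isCompact_iInf [QuasiSeparatedSpace X] {n : ℕ} (V : Fin (n + 1) → Opens X)
    (h : ∀ k, IsCompact (V k : Set X)) : IsCompact ((⨅ k, V k : Opens X) : Set X) :=
  isCompact_iInf_of_isQuasiSeparated (W := ⊤)
    (isQuasiSeparated_univ_iff.2 inferInstance) V h fun _ => le_top

variable [PrespectralSpace X] [QuasiSeparatedSpace X]

omit [PrespectralSpace X] in
theorem compactCov_h1 : ∀ (U : Opens X) (ι : Type u) (Y : ι → Over U), CompactCov U ι Y →
    Finite ι ∧ U ∈ compactOpens X ∧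
      Sieve.ofArrows (fun i => (Y i).left) (fun i => (Y i).hom) ∈ Opens.grothendieckTopology X U ∧
      ∀ (p : ℕ) (a : Fin (p + 1) → ι), (∏ᶜ fun k => Y (a k)).left ∈ compactOpens X :=
  fun U _ι Y ⟨hf, hU, hY, hcov⟩ => ⟨hf, hU, hcov, fun p a => by
    change IsCompact _
    rw [over_prod_left U]
    exact isCompact_iInf _ fun k => hY (a k)⟩

omit [QuasiSeparatedSpace X] in
theorem compactCov_h2 : ∀ U ∈ compactOpens X, ∀ T ∈ Opens.grothendieckTopology X U,
    ∃ (ι : Type u) (Y : ι → Over U), CompactCov U ι Y ∧ ∀ i, T.arrows (Y i).hom := by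
  intro U hU T hT
  have hx : ∀ x : U, ∃ W : Opens X, IsCompact (W : Set X) ∧ x.1 ∈ W ∧
      ∃ f : W ⟶ U, T.arrows f := fun x => by
    obtain ⟨V, f, hf, hxV⟩ := hT x.1 x.2
    obtain ⟨W, ⟨hWo, hWc⟩, hxW, hWV⟩ :=
      (PrespectralSpace.isTopologicalBasis (X := X)).exists_subset_of_mem_open hxV V.isOpen
    exact ⟨⟨W, hWo⟩, hWc, hxW, homOfLE (fun y hy => leOfHom f (hWV hy)),
      T.downward_closed hf (homOfLE hWV)⟩
  choose W hW hxW f hf using hx
  obtain ⟨t, ht⟩ := hU.elim_finite_subcover (fun x : U => (W x : Set X)) (fun x => (W x).isOpen)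
    (fun y hy => Set.mem_iUnion.2 ⟨⟨y, hy⟩, hxW ⟨y, hy⟩⟩)
  refine ⟨↥t, fun x => Over.mk (f x.1), ⟨inferInstance, hU, fun x => hW x.1, ?_⟩, fun x => hf x.1⟩
  intro y hy
  obtain ⟨x, hxt, hyx⟩ := Set.mem_iUnion₂.1 (ht hy)
  exact ⟨W x, f x, Sieve.ofArrows_mk (fun i : t => W i.1) (fun i : t => f i.1) ⟨x, hxt⟩, hyx⟩

omit [QuasiSeparatedSpace X] in
/-- Cohomology over a compact quasi-separated open commutes with filtered colimits. -/
theorem preservesColimit_cohomology_of_isQuasiSeparated {W : Opens X}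
    (hW : IsQuasiSeparated (W : Set X)) (hWc : IsCompact (W : Set X)) {I : Type u} [SmallCategory I]
    [IsFiltered I] (F : I ⥤ CohTop.Ab X) (p : ℕ) :
    PreservesColimit F
      ((Sheaf.cohomologyPresheafFunctor (Opens.grothendieckTopology X) p).flip.obj (op W)) := by
  refine preservesColimit_cohomology (B := {U : Opens X | IsCompact (U : Set X) ∧ U ≤ W})
    (Cov := fun U ι Y => CompactCov U ι Y ∧ U ≤ W)
    (fun U ι Y hY => ⟨hY.1.1, ⟨hY.1.2.1, hY.2⟩, hY.1.2.2.2, fun n a => ?_⟩)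
    (fun U hU T hT => ?_) F (U := W) ⟨hWc, le_rfl⟩ p
  · have hle : ∀ k, (Y (a k)).left ≤ W := fun k => (leOfHom (Y (a k)).hom).trans hY.2
    change IsCompact _ ∧ _ ≤ W
    rw [over_prod_left U]
    refine ⟨?_, (iInf_le _ 0).trans (hle 0)⟩
    exact isCompact_iInf_of_isQuasiSeparated hW _ (fun k => hY.1.2.2.1 (a k)) hle
  · obtain ⟨ι, Y, hY, hT⟩ := compactCov_h2 U hU.1 T hT
    exact ⟨ι, Y, ⟨hY, hU.2⟩, hT⟩

/-- Filtered colimits of flasque sheaves on a noetherian space have surjective restrictions. -/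
theorem surjective_restriction_colimit [NoetherianSpace X] {I : Type u} [SmallCategory I]
    [IsFiltered I] (F : I ⥤ CohTop.Ab X) (hF : ∀ i, TopCat.Sheaf.IsFlasque (F.obj i))
    {U V : Opens X} (h : V ≤ U) :
    Function.Surjective ((colimit F).obj.map (homOfLE h).op).hom := by
  intro t
  obtain ⟨hg, -⟩ := sections_colimit (J := Opens.grothendieckTopology X) compactCov_h1 compactCov_h2
    F (colimit.isColimit F) (U := V) (NoetherianSpace.isCompact (V : Set X))
  obtain ⟨i, x, hx⟩ := hg t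
  have hepi : Epi ((F.obj i).obj.map (homOfLE h).op) := (hF i).epi _
  obtain ⟨y, hy⟩ := (AddCommGrpCat.epi_iff_surjective _).1 hepi x
  exact ⟨(((colimit.ι F i).hom.app (op U))).hom y,
    ((ConcreteCategory.congr_hom ((colimit.ι F i).hom.naturality (homOfLE h).op) y).symm).trans
      ((congrArg ((colimit.ι F i).hom.app (op V)).hom hy).trans hx)⟩

end GrothLib.ColimCoh
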