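import Mathlib.CategoryTheory.Abelian.GrothendieckCategory.EnoughInjectives
import Mathlib.CategoryTheory.Abelian.GrothendieckCategory.HasExt
import Mathlib.CategoryTheory.Preadditive.Injective.LiftingProperties
import Mathlib.Algebra.Homology.DerivedCategory.Ext.ExactSequences
import Mathlib.Algebra.Homology.ShortComplex.ExactFunctor
import Mathlib.CategoryTheory.Abelian.FunctorCategory

/-!
# `Ext` and filtered colimits

If morphisms out of `G` commute with filtered colimits and filtered colimits of injectives are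
`Ext (G, -)`-acyclic, then all the groups `Ext^p (G, -)` commute with filtered colimits.
-/

universe u

open CategoryTheory Limits Abelian
open scoped ZeroObject

namespace GrothLib.ColimCoh

variable {A : Type (u + 1)} [Category.{u} A] [Abelian A] [IsGrothendieckAbelian.{u} A]
  [HasExt.{u} A] {I : Type u} [SmallCategory I] [IsFiltered I]

/-- The arrow to the zero object. -/
noncomputable def toZeroArrow : A ⥤ Arrow A where
  obj X := Arrow.mk (0 : X ⟶ (0 : A))
  map f := Arrow.homMk f (𝟙 _) (by simp)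

/-- The functorial factorization used to embed diagrams. -/
noncomputable abbrev injData :=
  MorphismProperty.functorialFactorizationData (MorphismProperty.monomorphisms A)
    (MorphismProperty.monomorphisms A).rlp

/-- A functorial embedding into injectives. -/
noncomputable def injFunctor : A ⥤ A := toZeroArrow ⋙ (injData (A := A)).Z

/-- The embedding. -/
noncomputable def injι : 𝟭 A ⟶ injFunctor (A := A) where
  app X := (injData (A := A)).i.app (toZeroArrow.obj X)
  naturality _ _ f := (injData (A := A)).i.naturality (toZeroArrow.map f)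

theorem mono_injι (X : A) : Mono ((injι (A := A)).app X) := (injData (A := A)).hi _

theorem injective_injFunctor (X : A) : Injective ((injFunctor (A := A)).obj X) := by
  rw [injective_iff_rlp_monomorphisms_zero]
  have h := (injData (A := A)).hp (toZeroArrow.obj X)
  have e : (injData (A := A)).p.app (toZeroArrow.obj X) =
      (0 : (injFunctor (A := A)).obj X ⟶ (0 : A)) := (isZero_zero A).eq_of_tgt _ _
  exact e ▸ h

/-- Every class of the colimit comes from a stage. -/
def Gen (G : A) (p : ℕ) (F : I ⥤ A) : Prop :=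
  ∀ x : Ext G (colimit F) p, ∃ (i : I) (y : Ext G (F.obj i) p),
    y.comp (Ext.mk₀ (colimit.ι F i)) (add_zero p) = x

/-- A class dying in the colimit dies at a stage. -/
def Kill (G : A) (p : ℕ) (F : I ⥤ A) : Prop :=
  ∀ (i : I) (y : Ext G (F.obj i) p), y.comp (Ext.mk₀ (colimit.ι F i)) (add_zero p) = 0 →
    ∃ (j : I) (f : i ⟶ j), y.comp (Ext.mk₀ (F.map f)) (add_zero p) = 0

theorem comp_mk₀_comp {G X Y Z : A} {p : ℕ} (y : Ext G X p) (f : X ⟶ Y) (g : Y ⟶ Z) :
    (y.comp (Ext.mk₀ f) (add_zero p)).comp (Ext.mk₀ g) (add_zero p) =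
      y.comp (Ext.mk₀ (f ≫ g)) (add_zero p) := by
  rw [Ext.comp_assoc_of_second_deg_zero, Ext.mk₀_comp_mk₀]

theorem comp_extClass_map {G : A} {S₁ S₂ : ShortComplex A} (h₁ : S₁.ShortExact)
    (h₂ : S₂.ShortExact) (φ : S₁ ⟶ S₂) {p : ℕ} (y : Ext G S₁.X₃ p) :
    (y.comp h₁.extClass rfl).comp (Ext.mk₀ φ.τ₁) (add_zero (p + 1)) =
      (y.comp (Ext.mk₀ φ.τ₃) (add_zero p)).comp h₂.extClass rfl := by
  rw [Ext.comp_assoc_of_third_deg_zero, ShortComplex.ShortExact.extClass_naturality h₁ h₂ φ,
    Ext.comp_assoc_of_second_deg_zero]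

variable (G : A) (h0 : ∀ F : I ⥤ A, Gen G 0 F ∧ Kill G 0 F)
  (hac : ∀ (F : I ⥤ A), (∀ i, Injective (F.obj i)) → ∀ p, Subsingleton (Ext G (colimit F) (p + 1)))

include h0 hac in
theorem gen_and_kill (p : ℕ) : ∀ F : I ⥤ A, Gen G p F ∧ Kill G p F := by
  induction p with
  | zero => exact h0
  | succ p ih =>
    intro F
    let Fi : I ⥤ A := F ⋙ injFunctor
    have hinj : ∀ i, Injective (Fi.obj i) := fun i => injective_injFunctor _
    let ι : F ⟶ Fi := Functor.whiskerLeft F injι
    have : ∀ i, Mono (ι.app i) := fun i => mono_injι _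
    have : Mono ι := NatTrans.mono_of_mono_app _
    let S : ShortComplex (I ⥤ A) := ShortComplex.mk ι (cokernel.π ι) (cokernel.condition ι)
    have hS : S.ShortExact :=
      { exact := ShortComplex.exact_of_g_is_cokernel _ (cokernelIsCokernel ι) }
    have hSi : ∀ i, (S.map ((evaluation I A).obj i)).ShortExact := fun i =>
      hS.map_of_exact ((evaluation I A).obj i)
    have hSc : (S.map colim).ShortExact := hS.map_of_exact colim
    let φ : ∀ i, S.map ((evaluation I A).obj i) ⟶ S.map colim := fun i =>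
      ShortComplex.homMk (colimit.ι F i) (colimit.ι Fi i) (colimit.ι (cokernel ι) i)
        (ι_colimMap ι i) (ι_colimMap (cokernel.π ι) i)
    let ψ : ∀ {i j : I}, (i ⟶ j) →
        (S.map ((evaluation I A).obj i) ⟶ S.map ((evaluation I A).obj j)) := fun {i j} f =>
      ShortComplex.homMk (F.map f) (Fi.map f) ((cokernel ι).map f)
        (ι.naturality f) ((cokernel.π ι).naturality f)
    obtain ⟨gI, kI⟩ := ih Fi
    obtain ⟨gQ, kQ⟩ := ih (cokernel ι)
    refine ⟨fun x => ?_, fun i x hx => ?_⟩
    · have : Subsingleton (Ext G (colimit Fi) (p + 1)) := hac Fi hinj p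
      obtain ⟨y, hy⟩ := Ext.covariant_sequence_exact₁ G hSc x (Subsingleton.elim (α := Ext G (colimit Fi) (p + 1)) _ _) rfl
      obtain ⟨i, yi, rfl⟩ := gQ y
      exact ⟨i, yi.comp (hSi i).extClass rfl, (comp_extClass_map (hSi i) hSc (φ i) yi).trans hy⟩
    · have : Injective (Fi.obj i) := hinj i
      obtain ⟨y, hy⟩ : ∃ y : Ext G ((cokernel ι).obj i) p, y.comp (hSi i).extClass rfl = x :=
        Ext.covariant_sequence_exact₁ G (hSi i) x (Ext.eq_zero_of_injective (I := Fi.obj i) _) rfl
      have h1 : (y.comp (Ext.mk₀ (colimit.ι (cokernel ι) i)) (add_zero p)).comp hSc.extClass rfl = 0 := by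
        refine (comp_extClass_map (hSi i) hSc (φ i) y).symm.trans ?_
        exact (congrArg (fun e => Ext.comp e (Ext.mk₀ (φ i).τ₁) (add_zero (p + 1))) hy).trans hx
      obtain ⟨w, hw⟩ : ∃ w : Ext G (colimit Fi) p,
          w.comp (Ext.mk₀ (colimMap (cokernel.π ι))) (add_zero p) =
            y.comp (Ext.mk₀ (colimit.ι (cokernel ι) i)) (add_zero p) :=
        Ext.covariant_sequence_exact₃ G hSc _ rfl h1
      obtain ⟨k, wk, rfl⟩ := gI w
      let j := IsFiltered.max i k
      let a : i ⟶ j := IsFiltered.leftToMax i k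
      let b : k ⟶ j := IsFiltered.rightToMax i k
      let yj : Ext G ((cokernel ι).obj j) p := y.comp (Ext.mk₀ ((cokernel ι).map a)) (add_zero p) -
        (wk.comp (Ext.mk₀ (Fi.map b)) (add_zero p)).comp (Ext.mk₀ ((cokernel.π ι).app j)) (add_zero p)
      have h2 : yj.comp (Ext.mk₀ (colimit.ι (cokernel ι) j)) (add_zero p) = 0 := by
        simp only [yj, sub_eq_add_neg, Ext.add_comp, Ext.neg_comp, comp_mk₀_comp, colimit.w]
        rw [← sub_eq_add_neg, sub_eq_zero, ← hw]
        refine (comp_mk₀_comp _ _ _).trans ?_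
        congr 2
        change colimit.ι Fi k ≫ colimMap (cokernel.π ι) = _
        rw [ι_colimMap, NatTrans.naturality, Category.assoc, colimit.w]
      obtain ⟨l, c, hl⟩ := kQ j yj h2
      refine ⟨l, a ≫ c, ?_⟩
      simp only [yj, sub_eq_add_neg, Ext.add_comp, Ext.neg_comp, comp_mk₀_comp] at hl
      rw [← sub_eq_add_neg, sub_eq_zero, ← Functor.map_comp, Category.assoc,
        ← NatTrans.naturality, ← Category.assoc, ← Functor.map_comp] at hl
      rw [← hy]
      refine (comp_extClass_map (hSi i) (hSi l) (ψ (a ≫ c)) y).trans ?_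
      change (y.comp (Ext.mk₀ ((cokernel ι).map (a ≫ c))) (add_zero p)).comp (hSi l).extClass rfl = 0
      rw [hl, ← comp_mk₀_comp]
      refine (Ext.comp_assoc _ _ _ _ (zero_add 1) (by omega)).trans ?_
      have : (Ext.mk₀ ((cokernel.π ι).app l)).comp (hSi l).extClass (zero_add 1) = 0 :=
        (hSi l).comp_extClass
      rw [this, Ext.comp_zero]

end GrothLib.ColimCoh
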