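import Groth.Agent.Lib.ColimCoh.RpushNat
import Mathlib.CategoryTheory.Sites.LocallyBijective
import Mathlib.CategoryTheory.Limits.Preserves.Filtered

/-!
# Higher direct images and colimits
-/

universe u

open CategoryTheory Limits Opposite GrothLib.SheafCoh

namespace GrothLib.ColimCoh

variable {D : Type u} [SmallCategory D] (K : GrothendieckTopology D)

/-- A morphism of presheaves which is bijective on a covering class becomes invertible. -/
theorem isIso_sheafify_of_iso_on_class {P Q : Dᵒᵖ ⥤ AddCommGrpCat.{u}} (θ : P ⟶ Q)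
    (h : ∀ V : D, ∃ (κ : Type u) (Y : κ → D) (g : ∀ k, Y k ⟶ V), Sieve.ofArrows Y g ∈ K V ∧
      ∀ k, IsIso (θ.app (op (Y k)))) :
    IsIso ((presheafToSheaf K AddCommGrpCat.{u}).map θ) := by
  refine (K.W_iff θ).1 ((K.W_iff_isLocallyBijective θ).2 ⟨⟨fun {V} x y hxy => ?_⟩, ⟨fun {V} t => ?_⟩⟩)
  · obtain ⟨κ, Y, g, hg, hiso⟩ := h V.unop
    refine K.superset_covering (fun W f hf => ?_) hg
    obtain ⟨k, b, rfl⟩ := (Sieve.mem_ofArrows_iff Y g f).1 hf
    have := hiso k
    have hk : P.map (g k).op x = P.map (g k).op y :=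
      (ConcreteCategory.bijective_of_isIso (θ.app (op (Y k)))).1
        ((ConcreteCategory.congr_hom (θ.naturality (g k).op) x).trans
          ((congrArg (Q.map (g k).op) hxy).trans
            (ConcreteCategory.congr_hom (θ.naturality (g k).op) y).symm))
    change P.map (b ≫ g k).op x = P.map (b ≫ g k).op y
    rw [op_comp, P.map_comp]
    exact congrArg (P.map b.op) hk
  · obtain ⟨κ, Y, g, hg, hiso⟩ := h V
    refine K.superset_covering (fun W f hf => ?_) hg
    obtain ⟨k, b, rfl⟩ := (Sieve.mem_ofArrows_iff Y g f).1 hf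
    have := hiso k
    obtain ⟨s, hs⟩ := (ConcreteCategory.bijective_of_isIso (θ.app (op (Y k)))).2 (Q.map (g k).op t)
    refine ⟨P.map b.op s, (ConcreteCategory.congr_hom (θ.naturality b.op) s).trans ?_⟩
    rw [op_comp, Q.map_comp]
    exact congrArg (Q.map b.op) hs

/-- If a presheaf valued functor commutes with a colimit on a covering class of objects, then its
sheafification commutes with it. -/
theorem preservesColimit_comp_sheafify {A : Type*} [Category* A] (Ψ : A ⥤ Dᵒᵖ ⥤ AddCommGrpCat.{u})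
    {I : Type u} [SmallCategory I] (F : I ⥤ A) [HasColimit F]
    (h : ∀ V : D, ∃ (κ : Type u) (Y : κ → D) (g : ∀ k, Y k ⟶ V), Sieve.ofArrows Y g ∈ K V ∧
      ∀ k, PreservesColimit F (Ψ ⋙ (evaluation _ AddCommGrpCat.{u}).obj (op (Y k)))) :
    PreservesColimit F (Ψ ⋙ presheafToSheaf K AddCommGrpCat.{u}) := by
  refine preservesColimit_of_preserves_colimit_cocone (colimit.isColimit F) ?_
  let d := Ψ.mapCocone (colimit.cocone F)
  let θ : colimit (F ⋙ Ψ) ⟶ d.pt := colimit.desc (F ⋙ Ψ) d
  have hθ : IsIso ((presheafToSheaf K AddCommGrpCat.{u}).map θ) := by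
    refine isIso_sheafify_of_iso_on_class K θ fun V => ?_
    obtain ⟨κ, Y, g, hg, hY⟩ := h V
    refine ⟨κ, Y, g, hg, fun k => ?_⟩
    have := hY k
    let ev := (evaluation Dᵒᵖ AddCommGrpCat.{u}).obj (op (Y k))
    let h1 := isColimitOfPreserves ev (colimit.isColimit (F ⋙ Ψ))
    let h2 : IsColimit (ev.mapCocone d) := isColimitOfPreserves (Ψ ⋙ ev) (colimit.isColimit F)
    have e : θ.app (op (Y k)) = (h1.coconePointUniqueUpToIso h2).hom := by
      refine h1.hom_ext fun i => ?_
      refine Eq.trans ?_ (h1.comp_coconePointUniqueUpToIso_hom h2 i).symm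
      exact NatTrans.congr_app (colimit.ι_desc d i) (op (Y k))
    exact e ▸ inferInstance
  let hl := isColimitOfPreserves (presheafToSheaf K AddCommGrpCat.{u}) (colimit.isColimit (F ⋙ Ψ))
  have e : hl.desc ((presheafToSheaf K AddCommGrpCat.{u}).mapCocone d) =
      (presheafToSheaf K AddCommGrpCat.{u}).map θ := by
    refine hl.hom_ext fun i => ?_
    refine (hl.fac _ i).trans ?_
    exact (congrArg (presheafToSheaf K AddCommGrpCat.{u}).map (colimit.ι_desc d i)).symm.trans
      ((presheafToSheaf K AddCommGrpCat.{u}).map_comp _ _)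
  have : IsIso (hl.desc ((presheafToSheaf K AddCommGrpCat.{u}).mapCocone d)) := e ▸ hθ
  exact @IsColimit.ofPointIso _ _ _ _ _ _ ((presheafToSheaf K AddCommGrpCat.{u}).mapCocone d) hl this

variable {C : Type u} [SmallCategory C] {J : GrothendieckTopology C}

/-- Higher direct images commute with a colimit if cohomology does so on a covering class. -/
theorem preservesColimit_Rpush (u : D ⥤ C) [u.IsContinuous K J] (p : ℕ) {I : Type u}
    [SmallCategory I] (F : I ⥤ Sheaf J AddCommGrpCat.{u})
    (h : ∀ V : D, ∃ (κ : Type u) (Y : κ → D) (g : ∀ k, Y k ⟶ V), Sieve.ofArrows Y g ∈ K V ∧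
      ∀ k, PreservesColimit F ((Sheaf.cohomologyPresheafFunctor J p).flip.obj (op (u.obj (Y k))))) :
    PreservesColimit F (CohSite.Rpush J K u p) := by
  have : PreservesColimit F ((Sheaf.cohomologyPresheafFunctor J p ⋙
      (Functor.whiskeringLeft _ _ _).obj u.op) ⋙ presheafToSheaf K AddCommGrpCat.{u}) :=
    preservesColimit_comp_sheafify K _ F fun V => by
      obtain ⟨κ, Y, g, hg, hY⟩ := h V
      exact ⟨κ, Y, g, hg, fun k => @preservesColimit_of_natIso _ _ _ _ _ _ F
        ((Sheaf.cohomologyPresheafFunctor J p).flip.obj (op (u.obj (Y k)))) _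
        (NatIso.ofComponents (fun _ => Iso.refl _) (fun {A B} f => by ext x; rfl)) (hY k)⟩
  exact @preservesColimit_of_natIso _ _ _ _ _ _ F
    ((Sheaf.cohomologyPresheafFunctor J p ⋙
      (Functor.whiskeringLeft _ _ _).obj u.op) ⋙ presheafToSheaf K AddCommGrpCat.{u}) _
    ((Functor.associator _ _ _) ≪≫ (RpushNatIso K u p).symm) this

end GrothLib.ColimCoh
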