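import Groth.Agent.Lib.SheafCoh.DerivedComp

/-!
# Naturality of the comparison of higher direct images with sheafified cohomology presheaves
-/

universe u

open CategoryTheory Limits Opposite Abelian GrothLib.SheafCoh

namespace GrothLib.ColimCoh

section

variable {A B D : Type*} [Category* A] [Category* B] [Category* D] [Abelian A] [Abelian B]
  [Abelian D]

lemma mapHCHomologyIso_naturality (E : B ⥤ D) [E.Additive] [E.PreservesHomology]
    {K L : CochainComplex B ℕ} (φ : K ⟶ L) (n : ℕ) :
    HomologicalComplex.homologyMap ((E.mapHomologicalComplex (ComplexShape.up ℕ)).map φ) n ≫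
        (mapHCHomologyIso E L n).hom =
      (mapHCHomologyIso E K n).hom ≫ E.map (HomologicalComplex.homologyMap φ n) :=
  ShortComplex.mapHomologyIso_hom_naturality
    ((HomologicalComplex.shortComplexFunctor B (ComplexShape.up ℕ) n).map φ) E

lemma rightDerivedPostExactIso_naturality [HasInjectiveResolutions A] (Φ : A ⥤ D) [Φ.Additive]
    (G : A ⥤ B) [G.Additive] (E : B ⥤ D) [E.Additive] [E.PreservesHomology]
    (e : Φ ≅ G ⋙ E) {F F' : A} (f : F ⟶ F') (n : ℕ) :
    (Φ.rightDerived n).map f ≫ (rightDerivedPostExactIso Φ G E e F' n).hom =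
      (rightDerivedPostExactIso Φ G E e F n).hom ≫ E.map ((G.rightDerived n).map f) := by
  let I := injectiveResolution F
  let I' := injectiveResolution F'
  let φ : I.cocomplex ⟶ I'.cocomplex := InjectiveResolution.desc f I' I
  have hφ : I.ι.f 0 ≫ φ.f 0 = f ≫ I'.ι.f 0 := InjectiveResolution.desc_commutes_zero f I' I
  have h1 := InjectiveResolution.isoRightDerivedObj_hom_naturality f I I' φ hφ Φ n
  have h4 := InjectiveResolution.isoRightDerivedObj_inv_naturality f I I' φ hφ G n
  let T : Φ.mapHomologicalComplex (ComplexShape.up ℕ) ⟶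
      G.mapHomologicalComplex _ ⋙ E.mapHomologicalComplex _ :=
    ((NatIso.mapHomologicalComplex e (ComplexShape.up ℕ)) ≪≫
      (Functor.mapHomologicalComplexCompIso (Iso.refl (G ⋙ E)) (ComplexShape.up ℕ)).symm).hom
  have h2 : HomologicalComplex.homologyMap ((Φ.mapHomologicalComplex _).map φ) n ≫
      HomologicalComplex.homologyMap (T.app I'.cocomplex) n =
      HomologicalComplex.homologyMap (T.app I.cocomplex) n ≫
        HomologicalComplex.homologyMap ((E.mapHomologicalComplex _).map
          ((G.mapHomologicalComplex _).map φ)) n := by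
    rw [← HomologicalComplex.homologyMap_comp, ← HomologicalComplex.homologyMap_comp]
    exact congrArg (fun ψ => HomologicalComplex.homologyMap ψ n) (T.naturality φ)
  have h3 := mapHCHomologyIso_naturality E ((G.mapHomologicalComplex _).map φ) n
  have h4' : E.map (HomologicalComplex.homologyMap ((G.mapHomologicalComplex _).map φ) n) ≫
      E.map (I'.isoRightDerivedObj G n).inv =
      E.map (I.isoRightDerivedObj G n).inv ≫ E.map ((G.rightDerived n).map f) :=
    ((E.map_comp _ _).symm.trans (congrArg E.map h4.symm)).trans (E.map_comp _ _)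
  change (Φ.rightDerived n).map f ≫ (I'.isoRightDerivedObj Φ n).hom ≫
      HomologicalComplex.homologyMap (T.app I'.cocomplex) n ≫ (mapHCHomologyIso E _ n).hom ≫
        E.map (I'.isoRightDerivedObj G n).inv =
    ((I.isoRightDerivedObj Φ n).hom ≫
      HomologicalComplex.homologyMap (T.app I.cocomplex) n ≫ (mapHCHomologyIso E _ n).hom ≫
        E.map (I.isoRightDerivedObj G n).inv) ≫ E.map ((G.rightDerived n).map f)
  refine (Category.assoc _ _ _).symm.trans (((congrArg (· ≫ _) h1).trans (Category.assoc _ _ _)).trans
    (Eq.trans ?_ (Category.assoc _ _ _).symm))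
  refine congrArg ((I.isoRightDerivedObj Φ n).hom ≫ ·) ?_
  refine (Category.assoc _ _ _).symm.trans (((congrArg (· ≫ _) h2).trans (Category.assoc _ _ _)).trans
    (Eq.trans ?_ (Category.assoc _ _ _).symm))
  refine congrArg (HomologicalComplex.homologyMap (T.app I.cocomplex) n ≫ ·) ?_
  refine (Category.assoc _ _ _).symm.trans (((congrArg (· ≫ _) h3).trans (Category.assoc _ _ _)).trans
    (Eq.trans ?_ (Category.assoc _ _ _).symm))
  exact congrArg ((mapHCHomologyIso E _ n).hom ≫ ·) h4'

lemma homologyToExtPre_naturality {C : Type u} [SmallCategory C] {A : Type*} [Category.{u} A]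
    [Abelian A] [HasExt.{u} A] (G : C ⥤ A) {F F' : A} (I : InjectiveResolution F)
    (I' : InjectiveResolution F') (g : F ⟶ F') (φ : I.cocomplex ⟶ I'.cocomplex)
    (hφ : I.ι.f 0 ≫ φ.f 0 = g ≫ I'.ι.f 0) (n : ℕ) :
    HomologicalComplex.homologyMap (((homPre G).mapHomologicalComplex _).map φ) n ≫
        homologyToExtPre G I' n =
      homologyToExtPre G I n ≫ (extPreFunctor G n).map g := by
  refine (cancel_epi ((homCx G I).homologyπ n)).1 ?_
  refine ((HomologicalComplex.homologyπ_naturality_assoc _ n _).trans
    (congrArg (fun e => HomologicalComplex.cyclesMap (((homPre G).mapHomologicalComplex _).map φ) n ≫ e)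
      (homologyπ_homologyToExtPre G I' n))).trans (Eq.trans ?_
    ((congrArg (fun e => e ≫ (extPreFunctor G n).map g) (homologyπ_homologyToExtPre G I n)).symm.trans
      (Category.assoc _ _ _)))
  ext U z
  change (cyclesToExtPre G I' n).app U _ = (InjectiveResolution.extMk I (((homCx G I).iCycles n).app U z) (n + 1) rfl
    (homCx_iCycles_comp_d G I n U z)).comp (Ext.mk₀ g) (add_zero n)
  rw [InjectiveResolution.extMk_comp_mk₀ (g := g) _ (n + 1) rfl (homCx_iCycles_comp_d G I n U z)
    (⟨φ, by simpa using hφ⟩ : InjectiveResolution.Hom I I' g), cyclesToExtPre_apply]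
  congr 1
  exact ConcreteCategory.congr_hom (NatTrans.congr_app
    (HomologicalComplex.cyclesMap_i (((homPre G).mapHomologicalComplex _).map φ) n) U) z

lemma rightDerivedHomPreIso_naturality {C : Type u} [SmallCategory C] {A : Type*} [Category.{u} A]
    [Abelian A] [HasExt.{u} A] [HasInjectiveResolutions A] (G : C ⥤ A) {F F' : A} (g : F ⟶ F')
    (n : ℕ) :
    ((homPre G).rightDerived n).map g ≫ (rightDerivedHomPreIso G F' n).hom =
      (rightDerivedHomPreIso G F n).hom ≫ (extPreFunctor G n).map g := by
  let I := injectiveResolution F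
  let I' := injectiveResolution F'
  have hφ := InjectiveResolution.desc_commutes_zero g I' I
  have h1 := InjectiveResolution.isoRightDerivedObj_hom_naturality g I I' _ hφ (homPre G) n
  change _ ≫ (I'.isoRightDerivedObj _ n).hom ≫ homologyToExtPre _ I' n =
    ((I.isoRightDerivedObj _ n).hom ≫ homologyToExtPre _ I n) ≫ _
  refine (Category.assoc _ _ _).symm.trans (((congrArg (· ≫ _) h1).trans (Category.assoc _ _ _)).trans
    (Eq.trans ?_ (Category.assoc _ _ _).symm))
  exact congrArg (fun e => (I.isoRightDerivedObj _ n).hom ≫ e)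
    (homologyToExtPre_naturality _ I I' g _ hφ n)

/-- `R^n (F ↦ Hom(G -, F)) = Ext^n(G -, F)`, as functors. -/
noncomputable def rightDerivedHomPreNatIso {C : Type u} [SmallCategory C] {A : Type*} [Category.{u} A]
    [Abelian A] [HasExt.{u} A] [HasInjectiveResolutions A] (G : C ⥤ A) (n : ℕ) :
    (homPre G).rightDerived n ≅ extPreFunctor G n :=
  NatIso.ofComponents (fun F => rightDerivedHomPreIso G F n)
    (fun g => rightDerivedHomPreIso_naturality G g n)

end

variable {C : Type u} [SmallCategory C] {J : GrothendieckTopology C}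

/-- `R^n` of the inclusion into presheaves, as functors. -/
noncomputable def rightDerivedSheafToPresheafNatIso (n : ℕ) :
    (sheafToPresheaf J AddCommGrpCat.{u}).rightDerived n ≅ Sheaf.cohomologyPresheafFunctor J n :=
  (rightDerivedCongr (homPreIso J) n).symm ≪≫
    rightDerivedHomPreNatIso (freeYFunctor J) n ≪≫ (cpfIso (J := J) n).symm

variable {C' : Type u} [SmallCategory C'] (K : GrothendieckTopology C')

/-- Higher direct images as sheafified cohomology presheaves, as functors. -/
noncomputable def RpushNatIso (u : C' ⥤ C) [u.IsContinuous K J] (n : ℕ) :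
    CohSite.Rpush J K u n ≅ Sheaf.cohomologyPresheafFunctor J n ⋙ precompSheafify K u :=
  NatIso.ofComponents (fun F => rightDerivedPostExactIso (CohSite.push J K u)
      (sheafToPresheaf J AddCommGrpCat.{u}) (precompSheafify K u) (pushIso K u) F n)
    (fun g => rightDerivedPostExactIso_naturality _ _ _ _ g n) ≪≫
  Functor.isoWhiskerRight (rightDerivedSheafToPresheafNatIso n) (precompSheafify K u)

end GrothLib.ColimCoh
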