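import Groth.Agent.Lib.ColimCoh.Abstract
import Groth.Agent.Lib.Cech.Cartan
import Mathlib.Algebra.Category.Grp.FilteredColimits
import Mathlib.CategoryTheory.Sites.Limits
import Mathlib.CategoryTheory.Sites.LocallyBijective
import Mathlib.CategoryTheory.Limits.Types.Filtered
import Mathlib.CategoryTheory.Limits.ConcreteCategory.Filtered

/-!
# Cohomology on a class of objects with finite covers commutes with filtered colimits
-/

universe u

open CategoryTheory Limits Opposite Abelian GrothLib.SheafCoh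

namespace GrothLib.ColimCoh

variable {C : Type u} [SmallCategory C] {I : Type u} [SmallCategory I] [IsFiltered I]

section Pre

variable {G : I ⥤ Cᵒᵖ ⥤ AddCommGrpCat.{u}} (e : Cocone G)

/-- Every section of the apex over `V` comes from a stage. -/
def GenAt (V : C) : Prop :=
  ∀ t : e.pt.obj (op V), ∃ (i : I) (x : (G.obj i).obj (op V)), ((e.ι.app i).app (op V)).hom x = t

/-- A section dying in the apex dies at a stage. -/
def KillAt (V : C) : Prop :=
  ∀ (i : I) (x : (G.obj i).obj (op V)), ((e.ι.app i).app (op V)).hom x = 0 →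
    ∃ (j : I) (f : i ⟶ j), ((G.map f).app (op V)).hom x = 0

lemma map_apply {i j k : I} (f : i ⟶ j) (g : j ⟶ k) (V : C) (x : (G.obj i).obj (op V)) :
    ((G.map g).app (op V)).hom (((G.map f).app (op V)).hom x) = ((G.map (f ≫ g)).app (op V)).hom x := by
  rw [G.map_comp]
  rfl

lemma ι_map_apply {i j : I} (f : i ⟶ j) (V : C) (x : (G.obj i).obj (op V)) :
    ((e.ι.app j).app (op V)).hom (((G.map f).app (op V)).hom x) = ((e.ι.app i).app (op V)).hom x :=
  ConcreteCategory.congr_hom (NatTrans.congr_app (e.w f) (op V)) x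

lemma res_ι_apply {i : I} {V W : C} (g : W ⟶ V) (x : (G.obj i).obj (op V)) :
    (e.pt.map g.op).hom (((e.ι.app i).app (op V)).hom x) =
      ((e.ι.app i).app (op W)).hom (((G.obj i).map g.op).hom x) :=
  (ConcreteCategory.congr_hom ((e.ι.app i).naturality g.op) x).symm

lemma res_map_apply {i j : I} (f : i ⟶ j) {V W : C} (g : W ⟶ V) (x : (G.obj i).obj (op V)) :
    ((G.obj j).map g.op).hom (((G.map f).app (op V)).hom x) =
      ((G.map f).app (op W)).hom (((G.obj i).map g.op).hom x) :=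
  (ConcreteCategory.congr_hom ((G.map f).naturality g.op) x).symm

theorem kill_finite {κ : Type u} [Finite κ] (V : κ → C) (hV : ∀ k, KillAt e (V k)) (i : I)
    (y : ∀ k, (G.obj i).obj (op (V k))) (hy : ∀ k, ((e.ι.app i).app (op (V k))).hom (y k) = 0) :
    ∃ (j : I) (f : i ⟶ j), ∀ k, ((G.map f).app (op (V k))).hom (y k) = 0 := by
  classical
  have := Fintype.ofFinite κ
  suffices h : ∀ s : Finset κ, ∃ (j : I) (f : i ⟶ j), ∀ k ∈ s,
      ((G.map f).app (op (V k))).hom (y k) = 0 by
    obtain ⟨j, f, hf⟩ := h Finset.univ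
    exact ⟨j, f, fun k => hf k (Finset.mem_univ k)⟩
  intro s
  induction s using Finset.induction with
  | empty => exact ⟨i, 𝟙 i, by simp⟩
  | @insert a s _ ih =>
    obtain ⟨j, f, hf⟩ := ih
    obtain ⟨l, g, hg⟩ := hV a j (((G.map f).app (op (V a))).hom (y a))
      ((ι_map_apply e f (V a) (y a)).trans (hy a))
    refine ⟨l, f ≫ g, fun k hk => ?_⟩
    rw [← map_apply]
    rcases Finset.mem_insert.1 hk with rfl | hk
    · exact hg
    · rw [hf k hk, map_zero]

theorem gen_finite {κ : Type u} [Finite κ] (V : κ → C) (hV : ∀ k, GenAt e (V k))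
    (t : ∀ k, e.pt.obj (op (V k))) :
    ∃ (j : I) (x : ∀ k, (G.obj j).obj (op (V k))),
      ∀ k, ((e.ι.app j).app (op (V k))).hom (x k) = t k := by
  classical
  have := Fintype.ofFinite κ
  choose i x hx using fun k => hV k (t k)
  obtain ⟨j, hj⟩ := IsFiltered.sup_objs_exists (Finset.univ.image i)
  let f : ∀ k, i k ⟶ j := fun k => (hj (Finset.mem_image_of_mem i (Finset.mem_univ k))).some
  exact ⟨j, fun k => ((G.map (f k)).app (op (V k))).hom (x k),
    fun k => (ι_map_apply e (f k) (V k) (x k)).trans (hx k)⟩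

theorem genAt_of_isColimit (he : IsColimit e) (V : C) : GenAt e V := fun t =>
  Concrete.isColimit_exists_rep (G ⋙ (evaluation _ _).obj (op V))
    (isColimitOfPreserves ((evaluation _ AddCommGrpCat.{u}).obj (op V)) he) t

theorem killAt_of_isColimit (he : IsColimit e) (V : C) : KillAt e V := fun i x hx => by
  let hl : IsColimit (((evaluation _ AddCommGrpCat.{u}).obj (op V) ⋙ forget AddCommGrpCat.{u}).mapCocone e) :=
    isColimitOfPreserves _ he
  obtain ⟨j, f, hf⟩ := (Types.FilteredColimit.isColimit_eq_iff' hl x (0 : (G.obj i).obj (op V))).1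
    (hx.trans (map_zero ((e.ι.app i).app (op V)).hom).symm)
  exact ⟨j, f, hf.trans (map_zero ((G.map f).app (op V)).hom)⟩

end Pre

variable [HasPullbacks C] {J : GrothendieckTopology C} {B : Set C}
  {Cov : ∀ (U : C) (ι : Type u), (ι → Over U) → Prop}
  (h1 : ∀ (U : C) (ι : Type u) (Y : ι → Over U), Cov U ι Y → Finite ι ∧ U ∈ B ∧
    Sieve.ofArrows (fun i => (Y i).left) (fun i => (Y i).hom) ∈ J U ∧
    ∀ (p : ℕ) (a : Fin (p + 1) → ι), (∏ᶜ fun k => Y (a k)).left ∈ B)
  (h2 : ∀ U ∈ B, ∀ T ∈ J U, ∃ (ι : Type u) (Y : ι → Over U), Cov U ι Y ∧ ∀ i, T.arrows (Y i).hom)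
  (F : I ⥤ Sheaf J AddCommGrpCat.{u})

/-- A cocone of sheaves as a cocone of presheaves. -/
abbrev preCocone {F : I ⥤ Sheaf J AddCommGrpCat.{u}} (c : Cocone F) :
    Cocone (F ⋙ sheafToPresheaf J AddCommGrpCat.{u}) :=
  (sheafToPresheaf J AddCommGrpCat.{u}).mapCocone c

omit [HasPullbacks C] [IsFiltered I] in
lemma eq_of_locally (H : Sheaf J AddCommGrpCat.{u}) {U : C} {κ : Type u} (Y : κ → Over U)
    (hY : Sieve.ofArrows (fun i => (Y i).left) (fun i => (Y i).hom) ∈ J U) (s t : H.obj.obj (op U))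
    (h : ∀ k, (H.obj.map (Y k).hom.op).hom s = (H.obj.map (Y k).hom.op).hom t) : s = t := by
  have hH := (isSheaf_iff_isSheaf_of_type J _).1
    ((Presheaf.isSheaf_iff_isSheaf_comp J H.obj (forget AddCommGrpCat.{u})).1 H.property)
  refine (hH _ hY).isSeparatedFor.ext fun V f hf => ?_
  obtain ⟨k, b, rfl⟩ := (Sieve.mem_ofArrows_iff _ _ f).1 hf
  change (H.obj.map (b ≫ (Y k).hom).op).hom s = (H.obj.map (b ≫ (Y k).hom).op).hom t
  rw [op_comp, Functor.map_comp]
  exact congrArg (H.obj.map b.op).hom (h k)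

omit [IsFiltered I] in
lemma exists_glue (H : Sheaf J AddCommGrpCat.{u}) {U : C} {κ : Type u} (Y : κ → Over U)
    (hY : Sieve.ofArrows (fun i => (Y i).left) (fun i => (Y i).hom) ∈ J U)
    (x : ∀ k, H.obj.obj (op (Y k).left))
    (hx : ∀ a : Fin 2 → κ, (H.obj.map (Pi.π (fun k => Y (a k)) 0).left.op).hom (x (a 0)) =
      (H.obj.map (Pi.π (fun k => Y (a k)) 1).left.op).hom (x (a 1))) :
    ∃ s : H.obj.obj (op U), ∀ k, (H.obj.map (Y k).hom.op).hom s = x k := by
  have hH := (isSheaf_iff_isSheaf_of_type J _).1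
    ((Presheaf.isSheaf_iff_isSheaf_comp J H.obj (forget AddCommGrpCat.{u})).1 H.property)
  have hF := (Presieve.isSheafFor_iff_generate _).2 (hH _ hY)
  obtain ⟨s, hs, -⟩ := (Presieve.isSheafFor_arrows_iff _ _).1 hF x (fun i j Z gi gj hg => by
    let a : Fin 2 → κ := ![i, j]
    let b : ∀ k, Over.mk (gi ≫ (Y i).hom) ⟶ Y (a k) :=
      Fin.cons (Over.homMk gi rfl) (Fin.cons (Over.homMk gj hg.symm) finZeroElim)
    let l : Over.mk (gi ≫ (Y i).hom) ⟶ ∏ᶜ fun k => Y (a k) := Pi.lift b
    have h0 : l.left ≫ (Pi.π (fun k => Y (a k)) 0).left = gi :=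
      congrArg CommaMorphism.left (Pi.lift_π b 0)
    have h1 : l.left ≫ (Pi.π (fun k => Y (a k)) 1).left = gj :=
      congrArg CommaMorphism.left (Pi.lift_π b 1)
    have := congrArg (H.obj.map l.left.op).hom (hx a)
    change (H.obj.map _ ≫ H.obj.map _).hom (x (a 0)) = (H.obj.map _ ≫ H.obj.map _).hom (x (a 1)) at this
    rw [← Functor.map_comp, ← Functor.map_comp, ← op_comp, ← op_comp] at this
    exact ((congrArg (fun φ : Z ⟶ (Y i).left => (H.obj.map φ.op).hom (x i)) h0).symm.trans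
      (this.trans (congrArg (fun φ : Z ⟶ (Y j).left => (H.obj.map φ.op).hom (x j)) h1))))
  exact ⟨s, hs⟩

variable (E : Cocone (F ⋙ sheafToPresheaf J AddCommGrpCat.{u})) (hE : IsColimit E)

include h1 h2 hE in
theorem killAt_sheafify {U : C} (hU : U ∈ B) : KillAt (preCocone (Sheaf.sheafifyCocone E)) U := by
  intro i x hx
  have hx' : ((toSheafify J E.pt).app (op U)).hom (((E.ι.app i).app (op U)).hom x) = 0 := by
    refine (ConcreteCategory.congr_hom (NatTrans.congr_app
      (Sheaf.sheafifyCocone_ι_app_val E i) (op U)) x).symm.trans hx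
  obtain ⟨κ, Y, hY, hYT⟩ := h2 U hU _
    (Presheaf.equalizerSieve_mem J (toSheafify J E.pt) (((E.ι.app i).app (op U)).hom x) 0
      (hx'.trans (map_zero ((toSheafify J E.pt).app (op U)).hom).symm))
  obtain ⟨hfin, -, hcov, -⟩ := h1 U κ Y hY
  obtain ⟨j, f, hf⟩ := kill_finite E (fun k => (Y k).left)
    (fun k => killAt_of_isColimit E hE _) i (fun k => ((F.obj i).obj.map (Y k).hom.op).hom x)
    (fun k => (res_ι_apply E _ x).symm.trans ((hYT k).trans (map_zero (E.pt.map (Y k).hom.op).hom)))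
  refine ⟨j, f, eq_of_locally (F.obj j) Y hcov _ _ fun k => ?_⟩
  rw [map_zero]
  exact (res_map_apply (G := F ⋙ sheafToPresheaf J AddCommGrpCat.{u}) f _ x).trans (hf k)

include h1 h2 hE in
theorem genAt_sheafify {U : C} (hU : U ∈ B) : GenAt (preCocone (Sheaf.sheafifyCocone E)) U := by
  intro t
  obtain ⟨κ, Y, hY, hYT⟩ := h2 U hU _
    (Presheaf.imageSieve_mem J (toSheafify J E.pt) t)
  obtain ⟨hfin, -, hcov, hprod⟩ := h1 U κ Y hY
  choose s hs using hYT
  obtain ⟨i, x, hx⟩ := gen_finite E (fun k => (Y k).left) (fun k => genAt_of_isColimit E hE _) s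
  let K := preCocone (Sheaf.sheafifyCocone E)
  have hK : ∀ k, ((K.ι.app i).app (op (Y k).left)).hom (x k) =
      (K.pt.map (Y k).hom.op).hom t := fun k =>
    (ConcreteCategory.congr_hom (NatTrans.congr_app
      (Sheaf.sheafifyCocone_ι_app_val E i) (op (Y k).left)) (x k)).trans
        ((congrArg ((toSheafify J E.pt).app (op (Y k).left)).hom (hx k)).trans (hs k))
  let y : ∀ a : Fin 2 → κ, (F.obj i).obj.obj (op (∏ᶜ fun k => Y (a k)).left) := fun a =>
    ((F.obj i).obj.map (Pi.π (fun k => Y (a k)) 0).left.op).hom (x (a 0)) -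
      ((F.obj i).obj.map (Pi.π (fun k => Y (a k)) 1).left.op).hom (x (a 1))
  obtain ⟨j, f, hf⟩ := kill_finite K (fun a : Fin 2 → κ => (∏ᶜ fun k => Y (a k)).left)
    (fun a => killAt_sheafify h1 h2 F E hE (hprod 1 a)) i y (fun a => by
      refine (map_sub ((K.ι.app i).app _).hom _ _).trans (sub_eq_zero.2 ?_)
      refine (res_ι_apply K (Pi.π (fun k => Y (a k)) 0).left (x (a 0))).symm.trans
        (Eq.trans ?_ (res_ι_apply K (Pi.π (fun k => Y (a k)) 1).left (x (a 1))))
      rw [hK, hK]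
      change (K.pt.map _ ≫ K.pt.map _).hom t = (K.pt.map _ ≫ K.pt.map _).hom t
      rw [← Functor.map_comp, ← Functor.map_comp, ← op_comp, ← op_comp, Over.w, Over.w])
  obtain ⟨z, hz⟩ := exists_glue (F.obj j) Y hcov
    (fun k => ((F.map f).hom.app (op (Y k).left)).hom (x k)) (fun a => by
      refine (res_map_apply (G := F ⋙ sheafToPresheaf J AddCommGrpCat.{u}) f
        (Pi.π (fun k => Y (a k)) 0).left (x (a 0))).trans (Eq.trans ?_
          (res_map_apply (G := F ⋙ sheafToPresheaf J AddCommGrpCat.{u}) f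
        (Pi.π (fun k => Y (a k)) 1).left (x (a 1))).symm)
      exact sub_eq_zero.1 ((map_sub _ _ _).symm.trans (hf a)))
  refine ⟨j, z, eq_of_locally (Sheaf.sheafifyCocone E).pt Y hcov _ _ fun k => ?_⟩
  refine (res_ι_apply K (Y k).hom z).trans ?_
  refine (congrArg ((K.ι.app j).app _).hom (hz k)).trans ?_
  exact (ι_map_apply K f _ (x k)).trans (hK k)

omit [HasPullbacks C] [IsFiltered I] in
lemma props_of_isColimit {c c' : Cocone F} (hc : IsColimit c) (hc' : IsColimit c') {U : C}
    (hg : GenAt (preCocone c) U) (hk : KillAt (preCocone c) U) :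
    GenAt (preCocone c') U ∧ KillAt (preCocone c') U := by
  let φ := hc.coconePointUniqueUpToIso hc'
  have hφ : ∀ i (x : (F.obj i).obj.obj (op U)), (φ.hom.hom.app (op U)).hom
      ((((preCocone c).ι.app i).app (op U)).hom x) = (((preCocone c').ι.app i).app (op U)).hom x :=
    fun i x => ConcreteCategory.congr_hom (NatTrans.congr_app (congrArg (·.hom)
      (hc.comp_coconePointUniqueUpToIso_hom hc' i)) (op U)) x
  have hb : Function.Bijective (φ.hom.hom.app (op U)).hom :=
    ConcreteCategory.bijective_of_isIso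
      (((sheafToPresheaf J AddCommGrpCat.{u}).mapIso φ).app (op U)).hom
  refine ⟨fun t => ?_, fun i x hx => hk i x (hb.1 ((hφ i x).trans (hx.trans (map_zero _).symm)))⟩
  obtain ⟨s, rfl⟩ := hb.2 t
  obtain ⟨i, x, hx⟩ := hg s
  exact ⟨i, x, (hφ i x).symm.trans (congrArg _ hx)⟩

include h1 h2 in
/-- Sections over a member of the class commute with filtered colimits. -/
theorem sections_colimit {c : Cocone F} (hc : IsColimit c) {U : C} (hU : U ∈ B) :
    GenAt (preCocone c) U ∧ KillAt (preCocone c) U :=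
  props_of_isColimit F (Sheaf.isColimitSheafifyCocone _ (colimit.isColimit _)) hc
    (genAt_sheafify h1 h2 F _ (colimit.isColimit _) hU)
    (killAt_sheafify h1 h2 F _ (colimit.isColimit _) hU)

include h1 h2 in
/-- Colimits of injectives have no Cech cohomology for the covers in the class. -/
theorem isZero_cechH_colimit (hinj : ∀ i, Injective (F.obj i)) (W : C) (κ : Type u)
    (Y : κ → Over W) (hY : Cov W κ Y) (p : ℕ) :
    IsZero (CohCx.cechH (colimit F).obj Y (p + 1)) := by
  obtain ⟨hfin, -, -, hprod⟩ := h1 W κ Y hY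
  let K := preCocone (colimit.cocone F)
  let P : I → ((Over W)ᵒᵖ ⥤ AddCommGrpCat.{u}) := fun i => (Over.forget W).op ⋙ (F.obj i).obj
  let Q : (Over W)ᵒᵖ ⥤ AddCommGrpCat.{u} := (Over.forget W).op ⋙ (colimit F).obj
  change IsZero (((cechComplexFunctor Y).obj Q).homology (p + 1))
  rw [← HomologicalComplex.exactAt_iff_isZero_homology,
    HomologicalComplex.exactAt_iff' _ p (p + 1) (p + 2) (by simp) (by simp), ShortComplex.ab_exact_iff]
  intro x hx
  change (Cech.cx Y Q).d (p + 1) (p + 2) x = 0 at hx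
  obtain ⟨i, y, hy⟩ := gen_finite K (fun a : Fin (p + 2) → κ => (Cech.obj Y a).left)
    (fun a => (sections_colimit h1 h2 F (colimit.isColimit F) (hprod (p + 1) a)).1)
    (fun a => Cech.ev Y Q a x)
  let y' : (Cech.cx Y (P i)).X (p + 1) := Cech.mk Y (P i) y
  let η : ∀ i, P i ⟶ Q := fun i => Functor.whiskerLeft (Over.forget W).op (K.ι.app i)
  have hsum : ∀ (i : I) (n : ℕ) (z : (Cech.cx Y (P i)).X n) (a : Fin (n + 2) → κ),
      ((η i).app (op (Cech.obj Y a))).hom (Cech.ev Y (P i) a ((Cech.cx Y (P i)).d n (n + 1) z)) =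
        Cech.ev Y Q a ((Cech.cx Y Q).d n (n + 1) (Cech.mk Y Q fun b =>
          ((η i).app (op (Cech.obj Y b))).hom (Cech.ev Y (P i) b z))) := fun i n z a => by
    rw [Cech.ev_d, Cech.ev_d, map_sum]
    refine Finset.sum_congr rfl fun k _ => ?_
    rw [map_zsmul, Cech.ev_mk]
    congr 1
    exact ConcreteCategory.congr_hom ((η i).naturality (Cech.proj Y a k).op) _
  have hy' : Cech.mk Y Q (fun b => ((η i).app (op (Cech.obj Y b))).hom
      (Cech.ev Y (P i) b y')) = x := Cech.ext Y Q fun b => by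
    rw [Cech.ev_mk]
    simp only [y', Cech.ev_mk]
    exact hy b
  obtain ⟨j, f, hf⟩ := kill_finite K (fun a : Fin (p + 3) → κ => (Cech.obj Y a).left)
    (fun a => (sections_colimit h1 h2 F (colimit.isColimit F) (hprod (p + 2) a)).2) i
    (fun a => Cech.ev Y (P i) a ((Cech.cx Y (P i)).d (p + 1) (p + 2) y'))
    (fun a => by
      refine (hsum i (p + 1) y' a).trans ?_
      rw [hy', hx]
      exact map_zero _)
  let g : P i ⟶ P j := Functor.whiskerLeft (Over.forget W).op (F.map f).hom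
  let yj : (Cech.cx Y (P j)).X (p + 1) := Cech.mk Y (P j) fun b => (g.app _).hom (y b)
  have hyj : (Cech.cx Y (P j)).d (p + 1) (p + 2) yj = 0 := Cech.ext Y (P j) fun a => by
    rw [map_zero, Cech.ev_d]
    refine Eq.trans ?_ (hf a)
    change _ = (g.app (op (Cech.obj Y a))).hom _
    rw [Cech.ev_d, map_sum]
    refine Finset.sum_congr rfl fun k _ => ?_
    rw [map_zsmul]
    simp only [yj, y', Cech.ev_mk]
    congr 1
    exact (ConcreteCategory.congr_hom (g.naturality (Cech.proj Y a k).op) _).symm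
  have hexact : IsZero (CohCx.cechH (F.obj j).obj Y (p + 1)) :=
    @Cech.isZero_cechH_of_injective_presheaf _ _ _ _ _ (Cech.injective_presheaf (F.obj j)) _ Y p
  change IsZero ((Cech.cx Y (P j)).homology (p + 1)) at hexact
  rw [← HomologicalComplex.exactAt_iff_isZero_homology,
    HomologicalComplex.exactAt_iff' _ p (p + 1) (p + 2) (by simp) (by simp), ShortComplex.ab_exact_iff]
    at hexact
  obtain ⟨z, hz⟩ := hexact yj hyj
  refine ⟨Cech.mk Y Q fun b => ((η j).app (op (Cech.obj Y b))).hom (Cech.ev Y (P j) b z), ?_⟩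
  refine Cech.ext Y Q fun a => ?_
  refine (hsum j p z a).symm.trans ((congrArg (fun w => ((η j).app _).hom (Cech.ev Y (P j) a w)) hz).trans ?_)
  simp only [yj, Cech.ev_mk]
  exact (ι_map_apply K f _ (y a)).trans (hy a)

include h1 h2 in
theorem ext_gen_and_kill {U : C} (hU : U ∈ B) (p : ℕ) :
    Gen (freeY J U) p F ∧ Kill (freeY J U) p F := by
  refine gen_and_kill (freeY J U) (fun D => ?_) (fun D hD n => ?_) p F
  · obtain ⟨hg, hk⟩ := sections_colimit h1 h2 D (colimit.isColimit D) hU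
    have key : ∀ {X Y : Sheaf J AddCommGrpCat.{u}} (φ : X ⟶ Y) (a : freeY J U ⟶ X),
        (Ext.mk₀ a).comp (Ext.mk₀ φ) (add_zero 0) = Ext.mk₀ (a ≫ φ) := fun φ a => Ext.mk₀_comp_mk₀ a φ
    refine ⟨fun x => ?_, fun i y hy => ?_⟩
    · obtain ⟨x, rfl⟩ := (Ext.mk₀_bijective (freeY J U) (colimit D)).2 x
      obtain ⟨i, s, hs⟩ := hg (homFreeY _ U x)
      obtain ⟨a, rfl⟩ := (homFreeY (D.obj i) U).surjective s
      exact ⟨i, Ext.mk₀ a, (key _ a).trans (congrArg Ext.mk₀ ((homFreeY _ U).injective hs))⟩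
    · obtain ⟨y, rfl⟩ := (Ext.mk₀_bijective (freeY J U) (D.obj i)).2 y
      rw [key, Ext.mk₀_eq_zero_iff] at hy
      obtain ⟨j, f, hf⟩ := hk i (homFreeY _ U y)
        ((homFreeY_comp U y (colimit.ι D i)).symm.trans (by rw [hy, map_zero]))
      refine ⟨j, f, ?_⟩
      rw [key, Ext.mk₀_eq_zero_iff]
      exact (homFreeY _ U).injective ((homFreeY_comp U y (D.map f)).trans (hf.trans (map_zero _).symm))
  · refine @Equiv.subsingleton _ _ (HUext (colimit D) (n + 1) U).toEquiv.symm ?_
    exact Cech.cartan_site B Cov (fun V κ Y hY => ⟨(h1 V κ Y hY).2.1, (h1 V κ Y hY).2.2.1, (h1 V κ Y hY).2.2.2⟩)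
      h2 (colimit D) (fun V κ Y hY q => isZero_cechH_colimit h1 h2 D hD V κ Y hY q) U hU n

include h1 h2 in
/-- Cohomology over a member of the class commutes with filtered colimits. -/
theorem preservesColimit_cohomology {U : C} (hU : U ∈ B) (p : ℕ) :
    PreservesColimit F ((Sheaf.cohomologyPresheafFunctor J p).flip.obj (op U)) := by
  refine preservesColimit_of_preserves_colimit_cocone (colimit.isColimit F) ?_
  obtain ⟨hg, hk⟩ := ext_gen_and_kill h1 h2 F hU p
  let Φ := (Sheaf.cohomologyPresheafFunctor J p).flip.obj (op U)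
  let c := Φ.mapCocone (colimit.cocone F)
  have : ReflectsColimit (F ⋙ Φ) (forget AddCommGrpCat.{u}) := reflectsColimit_of_reflectsIsomorphisms _ _
  apply isColimitOfReflects (forget AddCommGrpCat.{u})
  refine Types.FilteredColimit.isColimitOf _ _ (fun x => ?_) (fun i j xi xj h => ?_)
  · obtain ⟨i, y, hy⟩ := hg (HUext (colimit F) p U x)
    refine ⟨i, (HUext (F.obj i) p U).symm y, (HUext (colimit F) p U).injective ?_⟩
    refine hy.symm.trans (Eq.symm ((map_eq (colimit.ι F i) p U _).trans ?_))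
    rw [AddEquiv.apply_symm_apply]
  · let k := IsFiltered.max i j
    let a : i ⟶ k := IsFiltered.leftToMax i j
    let b : j ⟶ k := IsFiltered.rightToMax i j
    let d : Φ.obj (F.obj k) := (Φ.map (F.map a)).hom xi - (Φ.map (F.map b)).hom xj
    have hd : (Φ.map (colimit.ι F k)).hom d = 0 := by
      rw [map_sub, ← ConcreteCategory.comp_apply, ← ConcreteCategory.comp_apply, ← Φ.map_comp,
        ← Φ.map_comp, colimit.w, colimit.w, sub_eq_zero]
      exact h
    obtain ⟨l, g, hl⟩ := hk k (HUext (F.obj k) p U d)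
      ((map_eq (colimit.ι F k) p U d).symm.trans ((congrArg _ hd).trans (map_zero _)))
    refine ⟨l, a ≫ g, b ≫ g, ?_⟩
    have h0 : (Φ.map (F.map g)).hom d = 0 :=
      (HUext (F.obj l) p U).injective ((map_eq (F.map g) p U d).trans (hl.trans (map_zero _).symm))
    rw [map_sub, sub_eq_zero, ← ConcreteCategory.comp_apply, ← ConcreteCategory.comp_apply,
      ← Φ.map_comp, ← Φ.map_comp, ← F.map_comp, ← F.map_comp] at h0
    exact h0

end GrothLib.ColimCoh
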